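import Cfsg.Agent.SporChar.WFx
import Cfsg.Agent.SporChar.WFormAct

/-! Transport of formulas with membership atoms; relations for letters given by words. -/

set_option autoImplicit false

namespace Cfsg.Lib.MT

open Subgroup Cfsg.Lib.Spor Cfsg.Lib.Spor.Bulk Cfsg.Lib.Spor.PK Cfsg.Lib.Spor.WF

variable {G G' : Type*} [Group G] [Group G']

/-- The meaning of a formula without point atoms in an arbitrary group. -/
def semG (S : ℕ → Subgroup G) : Fx → (ℕ → G) → Prop
  | .eq a b, g => wv g a = wv g b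
  | .mem i a, g => wv g a ∈ S i
  | .pe _ _ _ _, _ => True
  | .not p, g => ¬ semG S p g
  | .and p q, g => semG S p g ∧ semG S q g
  | .or p q, g => semG S p g ∨ semG S q g
  | .imp p q, g => semG S p g → semG S q g
  | .ex i v p, g => ∃ x ∈ S i, semG S p (upd g v x)
  | .all i v p, g => ∀ x ∈ S i, semG S p (upd g v x)
  | .bind v w p, g => semG S p (upd g v (wv g w))
  | .alln _ _, _ => True

theorem semG_eq_def' : type_of% @semG.eq_def := @semG.eq_def

/-- No point atoms. -/
noncomputable def nope (p : Fx) : Bool :=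
  Fx.rec (motive := fun _ => Bool) (fun _ _ => true) (fun _ _ => true) (fun _ _ _ _ => false)
    (fun _ r => r) (fun _ _ r s => r && s) (fun _ _ r s => r && s) (fun _ _ r s => r && s)
    (fun _ _ _ r => r) (fun _ _ _ r => r) (fun _ _ _ r => r) (fun _ _ _ => false) p

theorem semG_iff {n : ℕ} [NeZero n] (S : ℕ → Subgroup (Equiv.Perm (Fin n))) (p : Fx)
    (hp : nope p = true) (g : ℕ → Equiv.Perm (Fin n)) : semG S p g ↔ p.sem S g := by
  induction p generalizing g with
  | eq a b => rfl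
  | mem i a => rfl
  | pe a i b j => exact absurd hp Bool.false_ne_true
  | not p ih => exact not_congr (ih hp g)
  | and p q ih ih' =>
    exact and_congr (ih (Bool.and_eq_true_iff.1 hp).1 g) (ih' (Bool.and_eq_true_iff.1 hp).2 g)
  | or p q ih ih' =>
    exact or_congr (ih (Bool.and_eq_true_iff.1 hp).1 g) (ih' (Bool.and_eq_true_iff.1 hp).2 g)
  | imp p q ih ih' =>
    exact imp_congr (ih (Bool.and_eq_true_iff.1 hp).1 g) (ih' (Bool.and_eq_true_iff.1 hp).2 g)
  | ex i v p ih => exact exists_congr fun x => and_congr_right fun _ => ih hp _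
  | all i v p ih => exact forall₂_congr fun x _ => ih hp _
  | bind v w p ih => exact ih hp _
  | alln k f ih => exact absurd hp Bool.false_ne_true

theorem semG_map (f : G →* G') (hf : Function.Injective f) (S : ℕ → Subgroup G) (p : Fx)
    (g : ℕ → G) : semG (fun i => (S i).map f) p (fun l => f (g l)) ↔ semG S p g := by
  induction p generalizing g with
  | eq a b => simp only [semG, wv_map, hf.eq_iff]
  | mem i a => simp only [semG, wv_map, mem_map_iff_mem hf]
  | pe a i b j => rfl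
  | not p ih => simp only [semG, ih]
  | and p q ih ih' => simp only [semG, ih, ih']
  | or p q ih ih' => simp only [semG, ih, ih']
  | imp p q ih ih' => simp only [semG, ih, ih']
  | ex i v p ih =>
    simp only [semG]
    constructor
    · rintro ⟨_, ⟨x, hx, rfl⟩, h⟩
      exact ⟨x, hx, (ih _).1 (by rwa [upd_map])⟩
    · rintro ⟨x, hx, h⟩
      exact ⟨f x, ⟨x, hx, rfl⟩, by rw [← upd_map]; exact (ih _).2 h⟩
  | all i v p ih =>
    simp only [semG]
    constructor
    · intro h x hx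
      exact (ih _).1 (by rw [upd_map]; exact h _ ⟨x, hx, rfl⟩)
    · rintro h _ ⟨x, hx, rfl⟩
      rw [← upd_map]; exact (ih _).2 (h x hx)
  | bind v w p ih => simp only [semG]; rw [wv_map, ← upd_map, ih]
  | alln k f ih => rfl

theorem holdsy {M : PM} [NeZero M.n] (h : M.ok = true) (h' : M.subsOK = true) {g : ℕ → G}
    (he : Emb M.m g) {p : Fx} (hp : (nope p && M.decx p) = true) :
    semG (fun i => sub g (M.W i)) p g := by
  obtain ⟨H, hm, φ, hφ, e⟩ := he
  obtain ⟨p1, p2⟩ := Bool.and_eq_true_iff.1 hp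
  have h1 := semG_map H.subtype H.subtype_injective (fun i => sub (fun l => ⟨M.m l, hm l⟩) (M.W i))
    p fun l => ⟨M.m l, hm l⟩
  have h2 := semG_map φ hφ (fun i => sub (fun l => ⟨M.m l, hm l⟩) (M.W i)) p fun l => ⟨M.m l, hm l⟩
  simp only [sub_map, e] at h1 h2
  exact h2.2 (h1.1 ((semG_iff _ p p1 _).2 (PM.holdsx h h' p2)))

theorem emb_refl (m : ℕ → G) : Emb m m :=
  ⟨⊤, fun _ => mem_top _, (⊤ : Subgroup G).subtype, subtype_injective _, fun _ => rfl⟩

/-- the letters given by the words `D` satisfy the relations -/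
def satFm (D : List (List ℕ)) (k : ℕ) (ι : ℕ → ℕ) (R : List (List ℕ)) : Fm :=
  .and (andL (List.range k) fun l => .eq (D.getD l [] ++ D.getD (ι l) []) [])
    (andL R fun r => .eq (sb D r) [])

theorem sat_of_emb {M : PM} [NeZero M.n] (h : M.ok = true) (h' : M.subsOK = true) {g g' : ℕ → G}
    (he : Emb M.m g) (D : List (List ℕ)) {k : ℕ} {ι : ℕ → ℕ} {R : List (List ℕ)} (h0 : g' 0 = 1)
    (e : ∀ l < k, g' l = sg g D l)
    (hd : ((∀ l < k, ι l < k) ∧ ∀ r ∈ R, ∀ l ∈ r, l < k) ∧ M.dec (satFm D k ι R) = true) :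
    Sat g' k ι R := by
  obtain ⟨h1, h2⟩ := PM.holds h h' he hd.2
  refine ⟨h0, fun l hl => ?_, fun r hr => ?_⟩
  · have := sem_andL.1 h1 l (List.mem_range.2 hl)
    rw [Fm.sem, wv_append, wv_nil] at this
    rw [e _ hl, e _ (hd.1.1 l hl)]
    exact eq_inv_of_mul_eq_one_left this
  · have := sem_andL.1 h2 r hr
    rw [Fm.sem, wv_sb, wv_nil] at this
    exact (wv_congr fun l hl => e l (hd.1.2 r hr l hl)).trans this

theorem sat_congr {g g' : ℕ → G} {k k' : ℕ} {ι : ℕ → ℕ} {R R' : List (List ℕ)} (h : Sat g k ι R)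
    (e : ∀ l < k', g' l = g l)
    (hk : 0 < k' ∧ k' ≤ k ∧ (∀ l < k', ι l < k') ∧ ∀ r ∈ R', r ∈ R ∧ ∀ l ∈ r, l < k') :
    Sat g' k' ι R' :=
  ⟨(e 0 hk.1).trans h.zero, fun l hl => by
    rw [e _ hl, e _ (hk.2.2.1 l hl), h.inv l (by omega)], fun r hr =>
    (wv_congr fun l hl => e l ((hk.2.2.2 r hr).2 l hl)).trans (h.rel r (hk.2.2.2 r hr).1)⟩

/-- A homomorphism from a model that is injective on the generated subgroup by counting. -/
theorem emb_of_card {M : PM} [NeZero M.n] (h : M.ok = true) (h' : M.subsOK = true) {g : ℕ → G}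
    (he : ∃ (hm : ∀ l, M.m l ∈ sub M.m (M.W 0)) (φ : sub M.m (M.W 0) →* G),
      φ.range = sub g (M.W 0) ∧ ∀ l, φ ⟨_, hm l⟩ = g l)
    (hc : certOrder (M.K 0) ≤ Nat.card (sub g (M.W 0))) : Emb M.m g := by
  obtain ⟨hm, φ, a, e⟩ := he
  refine ⟨_, hm, φ, ?_, e⟩
  have := (φ.rangeRestrict_surjective).bijective_of_nat_card_le (by
    rw [a, PM.card_sub h h']; exact hc)
  exact fun x y e => this.1 (Subtype.ext e)

end Cfsg.Lib.MT
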